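import Mathlib.GroupTheory.Sylow
import Cfsg.Agent.Char.Burnside

/-!
A finite group whose maximal subgroups have index a prime or the square of a prime is solvable.
-/

set_option autoImplicit false
set_option linter.style.haveILetI false

namespace CfsgLib.MaxIndex

open Subgroup

universe u

/-- A subgroup containing the normalizer of a Sylow `p`-subgroup has index congruent to one. -/
theorem index_modEq_one {G : Type*} [Group G] [Finite G] {p : ℕ} [Fact p.Prime] (P : Sylow p G)
    {M : Subgroup G} (hM : normalizer ((P : Subgroup G) : Set G) ≤ M) : M.index ≡ 1 [MOD p] := by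
  have hPM : (P : Subgroup G) ≤ M := le_normalizer.trans hM
  set Q := P.subtype hPM
  have hQ : normalizer (((Q : Sylow p M) : Subgroup M) : Set M) =
      (normalizer ((P : Subgroup G) : Set G)).subgroupOf M := by
    ext x
    rw [mem_normalizer_iff, mem_subgroupOf, mem_normalizer_iff]
    constructor
    · intro h y
      constructor
      · intro hy
        have := (h ⟨y, hPM hy⟩).1 (by simpa [Q, mem_subgroupOf] using hy)
        simpa [Q, mem_subgroupOf] using this
      · intro hy
        have hyM : y ∈ M := by
          have h1 := M.mul_mem (M.mul_mem (M.inv_mem x.2) (hPM hy)) x.2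
          simpa [mul_assoc] using h1
        have := (h ⟨y, hyM⟩).2 (by simpa [Q, mem_subgroupOf] using hy)
        simpa [Q, mem_subgroupOf] using this
    · intro h y
      simpa [Q, mem_subgroupOf] using h (y : G)
  have h1 : (normalizer ((P : Subgroup G) : Set G)).relIndex M ≡ 1 [MOD p] := by
    rw [Subgroup.relIndex, ← hQ,
      show (normalizer (((Q : Sylow p M) : Subgroup M) : Set M)).index = Nat.card (Sylow p M) from
        Q.card_eq_index_normalizer.symm]
    exact card_sylow_modEq_one p M
  have h2 : (normalizer ((P : Subgroup G) : Set G)).relIndex M * M.index ≡ 1 [MOD p] := by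
    rw [Subgroup.relIndex_mul_index hM,
      show (normalizer ((P : Subgroup G) : Set G)).index = Nat.card (Sylow p G) from
        P.card_eq_index_normalizer.symm]
    exact card_sylow_modEq_one p G
  simpa using ((Nat.ModEq.mul_right M.index h1).symm.trans h2)

theorem isSolvable_aux (n : ℕ) : ∀ (G : Type u) [Group G] [Finite G], Nat.card G = n →
    (∀ M : Subgroup G, IsCoatom M → ∃ p : ℕ, p.Prime ∧ (M.index = p ∨ M.index = p ^ 2)) →
      Group.IsSolvable G := by
  induction n using Nat.strong_induction_on with
  | _ n ih =>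
    intro G _ _ hn h
    subst hn
    classical
    by_cases h23 : ∀ q : ℕ, q.Prime → q ∣ Nat.card G → q ≤ 3
    · obtain ⟨a, b, hab⟩ : ∃ a b, Nat.card G = 2 ^ a * 3 ^ b := by
        obtain ⟨a, m, hm, ha⟩ := Nat.exists_eq_pow_mul_and_not_dvd (Nat.card_pos (α := G)).ne' 2 (by norm_num)
        refine ⟨a, (m.primeFactorsList.length), ?_⟩
        rw [ha]
        congr 1
        refine Nat.eq_prime_pow_of_unique_prime_dvd (fun e => hm (e ▸ dvd_zero 2)) fun {q} hq hqm => ?_
        have h3 := h23 q hq (hqm.trans ⟨2 ^ a, by rw [ha, mul_comm]⟩)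
        have h2 : q ≠ 2 := fun e => hm (e ▸ hqm)
        have := hq.two_le
        omega
      exact CfsgLib.Char.isSolvable_of_card_eq 2 3 a b Nat.prime_two Nat.prime_three hab
    push Not at h23
    obtain ⟨q₀, hq₀, hq₀d, hq₀3⟩ := h23
    have hmem : q₀ ∈ (Nat.card G).primeFactors := Nat.mem_primeFactors.2 ⟨hq₀, hq₀d, Nat.card_pos.ne'⟩
    obtain ⟨p, hp, hmax⟩ := (Nat.card G).primeFactors.exists_max_image id ⟨q₀, hmem⟩
    obtain ⟨hpp, hpd, -⟩ := Nat.mem_primeFactors.1 hp
    have hp3 : 3 < p := lt_of_lt_of_le hq₀3 (hmax q₀ hmem)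
    haveI := Fact.mk hpp
    obtain ⟨P⟩ : Nonempty (Sylow p G) := inferInstance
    by_cases hN : normalizer ((P : Subgroup G) : Set G) = ⊤
    · haveI hPn : (P : Subgroup G).Normal := normalizer_eq_top_iff.1 hN
      have hlt : Nat.card (G ⧸ (P : Subgroup G)) < Nat.card G := by
        rw [(P : Subgroup G).card_eq_card_quotient_mul_card_subgroup]
        exact lt_mul_of_one_lt_right Nat.card_pos
          ((Subgroup.one_lt_card_iff_ne_bot _).2 (P.ne_bot_of_dvd_card hpd))
      haveI : Group.IsSolvable (G ⧸ (P : Subgroup G)) := by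
        refine ih _ hlt _ rfl fun M hM => ?_
        have hs : Function.Surjective (QuotientGroup.mk' (P : Subgroup G)) :=
          QuotientGroup.mk'_surjective _
        rw [← M.index_comap_of_surjective hs]
        refine h _ ⟨fun e => hM.1 ?_, fun K hK => ?_⟩
        · rw [← Subgroup.map_comap_eq_self_of_surjective hs M, e, Subgroup.map_top_of_surjective _ hs]
        · have hker : (QuotientGroup.mk' (P : Subgroup G)).ker ≤ K :=
            le_trans (MonoidHom.ker_le_comap _ _) hK.le
          rw [← Subgroup.comap_map_eq_self hker, hM.2 (K.map (QuotientGroup.mk' _)) ?_,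
            Subgroup.comap_top]
          refine lt_of_le_of_ne (fun z hz => ?_) fun e => hK.ne ?_
          · obtain ⟨g, rfl⟩ := hs z
            exact ⟨g, hK.le hz, rfl⟩
          · rw [e, Subgroup.comap_map_eq_self hker]
      haveI := P.2.isNilpotent
      exact Group.isSolvable_of_ker_le_range (P : Subgroup G).subtype
        (QuotientGroup.mk' (P : Subgroup G)) (by simp)
    · exfalso
      obtain ⟨M, hM, hNM⟩ := (eq_top_or_exists_le_coatom _).resolve_left hN
      obtain ⟨q, hq, hi⟩ := h M hM
      have hmod := index_modEq_one P hNM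
      have hqd : q ∣ Nat.card G := by
        refine dvd_trans ?_ M.index_dvd_card
        rcases hi with e | e <;> rw [e]
        exact dvd_pow_self q two_ne_zero
      have hqp : q ≤ p := hmax q (Nat.mem_primeFactors.2 ⟨hq, hqd, Nat.card_pos.ne'⟩)
      have hne : q ≠ p := by
        rintro rfl
        have h0 : M.index ≡ 0 [MOD q] := Nat.modEq_zero_iff_dvd.2 (by
          rcases hi with e | e <;> rw [e]
          exact dvd_pow_self q two_ne_zero)
        have h1 : (1 : ℕ) % q = 0 := by simpa [Nat.ModEq] using hmod.symm.trans h0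
        rw [Nat.mod_eq_of_lt hq.one_lt] at h1
        omega
      have h2 := hq.two_le
      rcases hi with e | e
      · rw [e] at hmod
        have := (Nat.modEq_iff_dvd' (by omega : 1 ≤ q)).1 hmod.symm
        have := Nat.le_of_dvd (by omega) this
        omega
      · rw [e] at hmod
        have hd := (Nat.modEq_iff_dvd' (Nat.one_le_pow _ _ hq.pos)).1 hmod.symm
        rw [show q ^ 2 - 1 = (q + 1) * (q - 1) by rw [← Nat.sq_sub_sq, one_pow]] at hd
        rcases hpp.dvd_mul.1 hd with hd | hd
        · have hle := Nat.le_of_dvd (by omega) hd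
          have he : p = q + 1 := by omega
          rcases hq.eq_two_or_odd with h2' | hodd
          · omega
          · rcases hpp.eq_two_or_odd with h2'' | hodd'
            · omega
            · omega
        · have hle := Nat.le_of_dvd (by omega) hd
          omega

theorem isSolvable {G : Type u} [Group G] [Finite G]
    (h : ∀ M : Subgroup G, IsCoatom M → ∃ p : ℕ, p.Prime ∧ (M.index = p ∨ M.index = p ^ 2)) :
    Group.IsSolvable G :=
  isSolvable_aux _ G rfl h

end CfsgLib.MaxIndex
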